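import Cfsg.Agent.Lib.Sakuma.Pair

set_option autoImplicit false

/-!
The two consequences of the fusion law for `a₀` and its neighbours `a₁`, `a₋₁`:
the value of `a₀ ∘ σ'₂` and the square of `σ₁`.
-/

namespace Cfsg.Agent.Lib.Sakuma

open Cfsg.Axial

variable {V : Type*} [AddCommGroup V] [Module ℝ V]
variable {mul : V →ₗ[ℝ] V →ₗ[ℝ] V} {B : LinearMap.BilinForm ℝ V}

theorem mul_of_sig {a b s : V} (h : sig mul a b = s) : mul a b = s + (1 / 32 : ℝ) • (a + b) := by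
  rw [← h, sig]; module

set_option maxHeartbeats 1000000 in
theorem core (hV : IsMajoranaAmbient mul B) {μ : V ≃ₗ[ℝ] V} {a : V} (h : IsMajoranaPair mul B μ a) (hn : B a a = 1)
    {b c d e s t so : V} {x z : ℝ} (hc : μ b = c) (hx : B a b = x) (hs : sig mul a b = s)
    (hbb : mul b b = b) (hcc : mul c c = c) (hnb : B b b = 1) (hso : sig mul b c = so) (hz : B b c = z)
    (hbs : mul b s = (3 / 4 * x - 25 / 1024 : ℝ) • b + (7 / 32 : ℝ) • s + (7 / 2048 : ℝ) • (a + d))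
    (hcs : mul c s = (3 / 4 * x - 25 / 1024 : ℝ) • c + (7 / 32 : ℝ) • s + (7 / 2048 : ℝ) • (a + e))
    (hd : sig mul a d = t) (he : sig mul a e = t) :
    mul a so = (-32 / 3 * x ^ 2 + 5 / 3 * x - 1 / 24 * z - 127 / 3072 : ℝ) • a + (32 / 3 * x - 19 / 48 : ℝ) • s
        + (1 / 6 * x - 19 / 3072 : ℝ) • b + (1 / 6 * x - 19 / 3072 : ℝ) • c + (7 / 96 : ℝ) • t
        + (7 / 6144 : ℝ) • d + (7 / 6144 : ℝ) • e ∧
    mul s s = (-5 / 12 * x - 13 / 1536 : ℝ) • s + (7 / 6 * x ^ 2 - 7 / 384 * x + 7 / 1536 * z - 7 / 98304 : ℝ) • a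
        + (49 / 768 * x - 245 / 196608 : ℝ) • b + (49 / 768 * x - 245 / 196608 : ℝ) • c + (-7 / 1536 : ℝ) • t
        + (49 / 196608 : ℝ) • d + (49 / 196608 : ℝ) • e + (7 / 2048 : ℝ) • so := by
  have hcm := hV.1
  have haa : mul a a = a := h.2.2.1.1.2.1
  have hsc : sig mul a c = s := by rw [← hc, sig_mu_arg hV h hn, hs]
  have hab := mul_of_sig hs
  have hac := mul_of_sig hsc
  have had := mul_of_sig hd
  have hae := mul_of_sig he
  have hbc := mul_of_sig hso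
  have hba : mul b a = s + (1 / 32 : ℝ) • (a + b) := by rw [hcm b a, hab]
  have hca : mul c a = s + (1 / 32 : ℝ) • (a + c) := by rw [hcm c a, hac]
  have hcb : mul c b = so + (1 / 32 : ℝ) • (b + c) := by rw [hcm c b, hbc]
  have has : mul a s = (3 / 4 * x - 25 / 1024 : ℝ) • a + (7 / 32 : ℝ) • s + (7 / 2048 : ℝ) • (b + c) := by
    rw [← hs, mul_sig hV h hn, hc, hx]
  have hsa : mul s a = (3 / 4 * x - 25 / 1024 : ℝ) • a + (7 / 32 : ℝ) • s + (7 / 2048 : ℝ) • (b + c) := by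
    rw [hcm s a, has]
  have hsb : mul s b = (3 / 4 * x - 25 / 1024 : ℝ) • b + (7 / 32 : ℝ) • s + (7 / 2048 : ℝ) • (a + d) := by
    rw [hcm s b, hbs]
  have hsc' : mul s c = (3 / 4 * x - 25 / 1024 : ℝ) • c + (7 / 32 : ℝ) • s + (7 / 2048 : ℝ) • (a + e) := by
    rw [hcm s c, hcs]
  obtain ⟨u, v, hu, hv, huu, hvv, huv, hBv⟩ := components hV h hn b
  rw [hx, hs, hc] at hu hv
  set K := B v v with hKdef
  have hK : K = -4 * x ^ 2 + 4 * x + 1 / 16 * z - 1 / 16 := by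
    have e1 : B b s = 31 / 32 * x - 1 / 32 := by
      have e2 : B b (mul a b) = B a b := by rw [hcm a b, hV.2.2.2.1, hbb, hV.2.1]
      rw [← hs, ← hx, sig]
      simp only [map_sub, map_smul, map_add, e2, hnb, hV.2.1 b a, smul_eq_mul]
      ring
    rw [hBv, hv]
    simp only [map_add, map_smul, e1, hnb, hz, hV.2.1 b a, hx, smul_eq_mul]
    ring
  have hD : mul u u - mul v v = (-23 / 8 * x + 75 / 256 : ℝ) • b + (3 / 8 : ℝ) • so + (-23 / 8 * x + 75 / 256 : ℝ) • c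
      + (8 * x - 2 : ℝ) • s + (-1 * x ^ 2 + 1 / 4 * x - 9 / 256 : ℝ) • a + (-7 / 512 : ℝ) • d + (-7 / 512 : ℝ) • e := by
    rw [hu, hv]
    simp only [map_add, map_sub, map_smul, LinearMap.add_apply, LinearMap.sub_apply, LinearMap.smul_apply, haa, hbb,
      hcc, hab, hba, hac, hca, hbc, hcb, has, hsa, hbs, hsb, hcs, hsc']
    module
  have hE : mul u v + mul v v = (91 / 64 * x - 7 / 512 : ℝ) • b + (-5 * x + 1 : ℝ) • s + (7 / 1024 : ℝ) • d
      + (1 * x ^ 2 - 5 / 32 * x + 9 / 512 : ℝ) • a + (1 / 16 : ℝ) • so + (91 / 64 * x - 7 / 512 : ℝ) • c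
      + (7 / 1024 : ℝ) • e := by
    rw [hu, hv]
    simp only [map_add, map_sub, map_smul, LinearMap.add_apply, LinearMap.sub_apply, LinearMap.smul_apply, haa, hbb,
      hcc, hab, hba, hac, hca, hbc, hcb, has, hsa, hbs, hsb, hcs, hsc']
    module
  have hR : mul u v = (75 / 64 * x - 39 / 4096 : ℝ) • b + (3 * x + 17 / 32 : ℝ) • s + (21 / 4096 : ℝ) • d
      + (9 * x ^ 2 - 21 / 32 * x + 45 / 2048 : ℝ) • a + (7 / 128 : ℝ) • so + (75 / 64 * x - 39 / 4096 : ℝ) • c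
      + (21 / 4096 : ℝ) • e - (16 : ℝ) • mul s s := by
    rw [hu, hv]
    simp only [map_add, map_sub, map_smul, LinearMap.add_apply, LinearMap.sub_apply, LinearMap.smul_apply, haa, hbb,
      hcc, hab, hba, hac, hca, hbc, hcb, has, hsa, hbs, hsb, hcs, hsc']
    module
  have hD' := congrArg (mul a) hD
  simp only [map_add, map_sub, map_smul, huu, hvv, haa, hab, hac, had, hae, has] at hD'
  rw [hK] at hD'
  have hso' : mul a so = (-32 / 3 * x ^ 2 + 5 / 3 * x - 1 / 24 * z - 127 / 3072 : ℝ) • a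
      + (32 / 3 * x - 19 / 48 : ℝ) • s
      + (1 / 6 * x - 19 / 3072 : ℝ) • b + (1 / 6 * x - 19 / 3072 : ℝ) • c + (7 / 96 : ℝ) • t
      + (7 / 6144 : ℝ) • d + (7 / 6144 : ℝ) • e := by
    linear_combination (norm := module) (-8 / 3 : ℝ) • hD'
  refine ⟨hso', ?_⟩
  have hE' := congrArg (mul a) hE
  simp only [map_add, map_smul, huv, hvv, haa, hab, hac, had, hae, has, hso'] at hE'
  rw [hK, hR] at hE'
  linear_combination (norm := module) (-1 / 4 : ℝ) • hE'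

end Cfsg.Agent.Lib.Sakuma
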