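import Cfsg.Agent.Lib.Sakuma.Core

set_option autoImplicit false

/-!
Two Majorana involutions with their axes: the axis `a₃` lies in the span of the eight vectors
`a₋₂, …, a₂, σ₁, σ₂, σ'₂`, which gives the inner products `(a₀, aₖ)` as polynomials in `(a₀, a₁)` and
`(a₀, a₂)` and two polynomial equations between these two numbers.
-/

namespace Cfsg.Agent.Lib.Sakuma

open Cfsg.Axial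

variable {V : Type*} [AddCommGroup V] [Module ℝ V]
variable {mul : V →ₗ[ℝ] V →ₗ[ℝ] V} {B : LinearMap.BilinForm ℝ V}

structure Ctx (mul : V →ₗ[ℝ] V →ₗ[ℝ] V) (B : LinearMap.BilinForm ℝ V) (μ₀ μ₁ : V ≃ₗ[ℝ] V) (a₀ a₁ : V) : Prop where
  hV : IsMajoranaAmbient mul B
  h₀ : IsMajoranaPair mul B μ₀ a₀
  h₁ : IsMajoranaPair mul B μ₁ a₁
  n₀ : B a₀ a₀ = 1
  n₁ : B a₁ a₁ = 1

variable {μ₀ μ₁ : V ≃ₗ[ℝ] V} {a₀ a₁ : V}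

section
variable (C : Ctx mul B μ₀ μ₁ a₀ a₁)

include C

theorem Ctx.swap : Ctx mul B μ₁ μ₀ a₁ a₀ := ⟨C.hV, C.h₁, C.h₀, C.n₁, C.n₀⟩

theorem Ctx.sig_comm (a b : V) : sig mul b a = sig mul a b := by
  rw [sig, sig, C.hV.1 b a, add_comm b a]

theorem Ctx.map₀_sig (a b : V) : μ₀ (sig mul a b) = sig mul (μ₀ a) (μ₀ b) := by
  simp only [sig, map_sub, map_smul, map_add, C.h₀.1]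

theorem Ctx.idem₀ : mul a₀ a₀ = a₀ := C.h₀.2.2.1.1.2.1

theorem Ctx.idem₁ : mul a₁ a₁ = a₁ := C.h₁.2.2.1.1.2.1

theorem Ctx.fix₀ : μ₀ a₀ = a₀ := fix_axis C.hV C.h₀

theorem Ctx.invol₀ (v : V) : μ₀ (μ₀ v) = v := invol C.hV C.h₀ C.n₀ v

theorem Ctx.mu₀_s1 : μ₀ (sig mul a₀ a₁) = sig mul a₀ a₁ := mu_sig C.hV C.h₀ C.n₀ a₁

theorem Ctx.mu₁_s1 : μ₁ (sig mul a₀ a₁) = sig mul a₀ a₁ := by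
  rw [C.sig_comm a₁ a₀]; exact mu_sig C.hV C.h₁ C.n₁ a₀

theorem Ctx.mu₀_even : μ₀ (sig mul a₀ (μ₁ a₀)) = sig mul a₀ (μ₁ a₀) := mu_sig C.hV C.h₀ C.n₀ _

theorem Ctx.mu₁_even : μ₁ (sig mul a₀ (μ₁ a₀)) = sig mul a₀ (μ₁ a₀) := by
  rw [C.swap.map₀_sig, C.swap.invol₀, C.sig_comm]

theorem Ctx.a1_s1 : mul a₁ (sig mul a₀ a₁) = (3 / 4 * B a₀ a₁ - 25 / 1024 : ℝ) • a₁
    + (7 / 32 : ℝ) • sig mul a₀ a₁ + (7 / 2048 : ℝ) • (a₀ + μ₁ a₀) := by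
  have := mul_sig C.hV C.h₁ C.n₁ a₀
  rwa [C.sig_comm a₀ a₁, C.hV.2.1 a₁ a₀] at this

theorem Ctx.core_at :
    mul a₀ (sig mul a₁ (μ₀ a₁)) = (-32 / 3 * B a₀ a₁ ^ 2 + 5 / 3 * B a₀ a₁ - 1 / 24 * B a₁ (μ₀ a₁) - 127 / 3072 : ℝ) • a₀
        + (32 / 3 * B a₀ a₁ - 19 / 48 : ℝ) • sig mul a₀ a₁
        + (1 / 6 * B a₀ a₁ - 19 / 3072 : ℝ) • a₁ + (1 / 6 * B a₀ a₁ - 19 / 3072 : ℝ) • μ₀ a₁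
        + (7 / 96 : ℝ) • sig mul a₀ (μ₁ a₀) + (7 / 6144 : ℝ) • μ₁ a₀ + (7 / 6144 : ℝ) • μ₀ (μ₁ a₀) ∧
    mul (sig mul a₀ a₁) (sig mul a₀ a₁) = (-5 / 12 * B a₀ a₁ - 13 / 1536 : ℝ) • sig mul a₀ a₁
        + (7 / 6 * B a₀ a₁ ^ 2 - 7 / 384 * B a₀ a₁ + 7 / 1536 * B a₁ (μ₀ a₁) - 7 / 98304 : ℝ) • a₀
        + (49 / 768 * B a₀ a₁ - 245 / 196608 : ℝ) • a₁ + (49 / 768 * B a₀ a₁ - 245 / 196608 : ℝ) • μ₀ a₁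
        + (-7 / 1536 : ℝ) • sig mul a₀ (μ₁ a₀)
        + (49 / 196608 : ℝ) • μ₁ a₀ + (49 / 196608 : ℝ) • μ₀ (μ₁ a₀) + (7 / 2048 : ℝ) • sig mul a₁ (μ₀ a₁) := by
  refine core C.hV C.h₀ C.n₀ rfl rfl rfl C.idem₁ ?_ C.n₁ rfl rfl C.a1_s1 ?_ rfl ?_
  · rw [← C.h₀.1, C.idem₁]
  · have e := congrArg μ₀ C.a1_s1
    simp only [C.h₀.1, map_add, map_smul, C.mu₀_s1, C.fix₀] at e
    exact e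
  · exact sig_mu_arg C.hV C.h₀ C.n₀ _

theorem Ctx.inner_s1 : B a₀ (sig mul a₀ a₁) = 31 / 32 * B a₀ a₁ - 1 / 32 ∧
    B a₁ (sig mul a₀ a₁) = 31 / 32 * B a₀ a₁ - 1 / 32 := by
  refine ⟨inner_sig C.hV C.h₀ C.n₀ a₁, ?_⟩
  have := inner_sig C.hV C.h₁ C.n₁ a₀
  rwa [C.sig_comm a₀ a₁, C.hV.2.1 a₁ a₀] at this

theorem Ctx.b_am1 : B a₀ (μ₀ a₁) = B a₀ a₁ := by
  conv_lhs => rw [← C.fix₀]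
  exact C.h₀.2.1 _ _

theorem Ctx.inner_odd : B a₀ (sig mul a₁ (μ₀ a₁)) = 15 / 16 * B a₀ a₁ - 1 / 32 + 1 / 32 * B a₁ (μ₀ a₁) := by
  have e1 : B (sig mul a₀ a₁) (μ₀ a₁) = 31 / 32 * B a₀ a₁ - 1 / 32 := by
    conv_lhs => rw [← C.mu₀_s1]
    rw [C.h₀.2.1, C.hV.2.1, C.inner_s1.2]
  have e : B a₀ (mul a₁ (μ₀ a₁)) = B (mul a₀ a₁) (μ₀ a₁) := C.hV.2.2.2.1 _ _ _
  rw [mul_of_sig (a := a₀) (b := a₁) rfl] at e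
  simp only [map_add, map_smul, LinearMap.add_apply, LinearMap.smul_apply, e1, C.b_am1, smul_eq_mul] at e
  simp only [sig, map_sub, map_smul, map_add, C.b_am1, smul_eq_mul, e]
  ring

theorem Ctx.z_eq : B a₁ (μ₀ a₁) = B a₀ (μ₁ a₀) := by
  have e : B a₀ (mul a₀ (sig mul a₁ (μ₀ a₁))) = B a₀ (sig mul a₁ (μ₀ a₁)) := by
    rw [C.hV.2.2.2.1, C.idem₀]
  have e2 : B a₀ (μ₀ (μ₁ a₀)) = B a₀ (μ₁ a₀) := by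
    conv_lhs => rw [← C.fix₀]
    rw [C.h₀.2.1, C.fix₀]
  have e3 := inner_sig C.hV C.h₀ C.n₀ (μ₁ a₀)
  rw [C.core_at.1] at e
  simp only [map_add, map_smul, C.n₀, C.b_am1, C.inner_s1.1, C.inner_odd, e2, e3, smul_eq_mul] at e
  linarith

/-- The axis `a₃` in terms of the eight spanning vectors. -/
theorem Ctx.a3_eq : μ₁ (μ₀ a₁) =
    (32768 / 7 * B a₀ a₁ ^ 2 - 2304 / 7 * B a₀ a₁ + 128 / 7 * B a₀ (μ₁ a₀) + 33 / 7 : ℝ) • a₀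
    + (-32768 / 7 * B a₀ a₁ ^ 2 + 2304 / 7 * B a₀ a₁ - 128 / 7 * B a₀ (μ₁ a₀) - 33 / 7 : ℝ) • a₁
    + (256 * B a₀ a₁ - 6 : ℝ) • μ₀ a₁ + (-32 : ℝ) • sig mul a₀ (μ₁ a₀) + (-256 * B a₀ a₁ + 6 : ℝ) • μ₁ a₀
    + (1 : ℝ) • μ₀ (μ₁ a₀) + (32 : ℝ) • sig mul a₁ (μ₀ a₁) := by
  have e₀ := C.core_at.2
  have e₁ := C.swap.core_at.2
  rw [C.sig_comm a₀ a₁, C.hV.2.1 a₁ a₀] at e₁
  rw [C.z_eq] at e₀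
  linear_combination (norm := module) (196608 / 49 : ℝ) • (e₀ - e₁)

theorem Ctx.inner_even : B a₁ (sig mul a₀ (μ₁ a₀)) = 15 / 16 * B a₀ a₁ - 1 / 32 + 1 / 32 * B a₀ (μ₁ a₀) := by
  rw [C.swap.inner_odd, C.hV.2.1 a₁ a₀]

/-- The polynomial giving `(a₀, a₃)`. -/
theorem Ctx.inner_a3 : B a₀ (μ₁ (μ₀ a₁)) = -32768 / 7 * B a₀ a₁ ^ 3 + 36864 / 7 * B a₀ a₁ ^ 2
    - 1920 / 7 * B a₀ a₁ * B a₀ (μ₁ a₀) - 2169 / 7 * B a₀ a₁ - 33 / 7 * B a₀ (μ₁ a₀) + 33 / 7 := by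
  have e2 : B a₀ (μ₀ (μ₁ a₀)) = B a₀ (μ₁ a₀) := by
    conv_lhs => rw [← C.fix₀]
    rw [C.h₀.2.1, C.fix₀]
  have e3 := inner_sig C.hV C.h₀ C.n₀ (μ₁ a₀)
  rw [C.a3_eq]
  simp only [map_add, map_smul, C.n₀, C.b_am1, C.inner_odd, C.z_eq, e2, e3, smul_eq_mul]
  ring

theorem Ctx.b_a2_a1 : B a₁ (μ₁ a₀) = B a₀ a₁ := by rw [C.swap.b_am1, C.hV.2.1]

theorem Ctx.b_am1_am2 : B (μ₀ a₁) (μ₀ (μ₁ a₀)) = B a₀ a₁ := by rw [C.h₀.2.1, C.b_a2_a1]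

theorem Ctx.b_am1_a2 : B (μ₀ a₁) (μ₁ a₀) = B a₀ (μ₁ (μ₀ a₁)) := by
  rw [C.hV.2.1]
  conv_lhs => rw [← C.swap.invol₀ (μ₀ a₁)]
  exact C.h₁.2.1 _ _

theorem Ctx.b_a1_am2 : B a₁ (μ₀ (μ₁ a₀)) = B a₀ (μ₁ (μ₀ a₁)) := by
  rw [← C.b_am1_a2]
  conv_lhs => rw [← C.invol₀ a₁]
  exact C.h₀.2.1 _ _

theorem Ctx.b_a2_a3 : B (μ₁ a₀) (μ₁ (μ₀ a₁)) = B a₀ a₁ := by rw [C.h₁.2.1, C.b_am1]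

theorem Ctx.b_a1_a3 : B a₁ (μ₁ (μ₀ a₁)) = B a₀ (μ₁ a₀) := by
  conv_lhs => rw [← C.swap.fix₀]
  rw [C.h₁.2.1, C.swap.fix₀, C.z_eq]

/-- The polynomial giving `(a₋₁, a₃)`. -/
theorem Ctx.inner_am1_a3 : B (μ₀ a₁) (μ₁ (μ₀ a₁)) = 8388608 / 7 * B a₀ a₁ ^ 4 - 9601024 / 7 * B a₀ a₁ ^ 3
    + 65536 * B a₀ a₁ ^ 2 * B a₀ (μ₁ a₀) + 110592 * B a₀ a₁ ^ 2 - 640 / 7 * B a₀ a₁ * B a₀ (μ₁ a₀)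
    - 19840 / 7 * B a₀ a₁ - 128 / 7 * B a₀ (μ₁ a₀) ^ 2 - 3 * B a₀ (μ₁ a₀) + 156 / 7 := by
  have s1 : B (μ₀ a₁) (sig mul a₀ (μ₁ a₀)) = B a₁ (sig mul a₀ (μ₁ a₀)) := by
    conv_lhs => rw [← C.mu₀_even]
    exact C.h₀.2.1 _ _
  have s2 : B (μ₀ a₁) (sig mul a₁ (μ₀ a₁)) = 31 / 32 * B a₀ (μ₁ a₀) - 1 / 32 := by
    conv_lhs => rw [← C.swap.mu₁_even]
    rw [C.h₀.2.1, inner_sig C.hV C.h₁ C.n₁, C.z_eq]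
  have e0 : B (μ₀ a₁) a₀ = B a₀ a₁ := by rw [C.hV.2.1, C.b_am1]
  have e1 : B (μ₀ a₁) a₁ = B a₀ (μ₁ a₀) := by rw [C.hV.2.1, C.z_eq]
  have e2 : B (μ₀ a₁) (μ₀ a₁) = 1 := by rw [C.h₀.2.1, C.n₁]
  conv_lhs => rw [C.a3_eq]
  simp only [map_add, map_smul, e0, e1, e2, s1, s2, C.inner_even, C.b_am1_am2, C.b_am1_a2, C.inner_a3, smul_eq_mul]
  ring

/-- The polynomial giving `(a₋₂, a₃)`. -/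
theorem Ctx.inner_am2_a3 : B (μ₀ (μ₁ a₀)) (μ₁ (μ₀ a₁)) = -13958643712 / 49 * B a₀ a₁ ^ 5
    + 16273899520 / 49 * B a₀ a₁ ^ 4 - 754974720 / 49 * B a₀ a₁ ^ 3 * B a₀ (μ₁ a₀)
    - 1633419264 / 49 * B a₀ a₁ ^ 3 + 12582912 / 49 * B a₀ a₁ ^ 2 * B a₀ (μ₁ a₀) + 8683520 / 7 * B a₀ a₁ ^ 2
    + 475136 / 49 * B a₀ a₁ * B a₀ (μ₁ a₀) ^ 2 + 259584 / 49 * B a₀ a₁ * B a₀ (μ₁ a₀) - 137721 / 7 * B a₀ a₁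
    - 256 / 49 * B a₀ (μ₁ a₀) ^ 2 - 5256 / 49 * B a₀ (μ₁ a₀) + 5512 / 49 := by
  have sw := C.swap.inner_am1_a3
  rw [C.hV.2.1 a₁ a₀, C.z_eq] at sw
  have e0 : B (μ₀ (μ₁ a₀)) a₀ = B a₀ (μ₁ a₀) := by
    conv_lhs => rw [← C.fix₀]
    rw [C.h₀.2.1, C.fix₀, C.hV.2.1]
  have e1 : B (μ₀ (μ₁ a₀)) a₁ = B a₀ (μ₁ (μ₀ a₁)) := by rw [C.hV.2.1, C.b_a1_am2]
  have e2 : B (μ₀ (μ₁ a₀)) (μ₀ a₁) = B a₀ a₁ := by rw [C.hV.2.1, C.b_am1_am2]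
  have e3 : B (μ₀ (μ₁ a₀)) (μ₁ a₀) = B (μ₁ a₀) (μ₀ (μ₁ a₀)) := C.hV.2.1 _ _
  have e4 : B (μ₀ (μ₁ a₀)) (μ₀ (μ₁ a₀)) = 1 := by rw [C.h₀.2.1, C.h₁.2.1, C.n₀]
  have s1 : B (μ₀ (μ₁ a₀)) (sig mul a₀ (μ₁ a₀)) = 31 / 32 * B a₀ (μ₁ a₀) - 1 / 32 := by
    conv_lhs => rw [← C.mu₀_even]
    rw [C.h₀.2.1]
    conv_lhs => rw [← C.mu₁_even]
    rw [C.h₁.2.1, inner_sig C.hV C.h₀ C.n₀]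
  have s2 : B (μ₀ (μ₁ a₀)) (sig mul a₁ (μ₀ a₁)) = B a₀ (sig mul a₁ (μ₀ a₁)) := by
    conv_lhs => rw [← C.swap.mu₁_even]
    rw [C.h₀.2.1]
    conv_lhs => rw [← C.swap.mu₀_even]
    exact C.h₁.2.1 _ _
  conv_lhs => rw [C.a3_eq]
  simp only [map_add, map_smul, e0, e1, e2, e3, sw, e4, s1, s2, C.inner_odd, C.z_eq, C.inner_a3, smul_eq_mul]
  ring

/-- The polynomial giving `(a₋₃, a₃)`. -/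
theorem Ctx.inner_am3_a3 : B (μ₀ (μ₁ (μ₀ a₁))) (μ₁ (μ₀ a₁)) = 3298534883328 / 49 * B a₀ a₁ ^ 6
    - 3917010173952 / 49 * B a₀ a₁ ^ 5 + 177167400960 / 49 * B a₀ a₁ ^ 4 * B a₀ (μ₁ a₀)
    + 469317451776 / 49 * B a₀ a₁ ^ 4 - 5511315456 / 49 * B a₀ a₁ ^ 3 * B a₀ (μ₁ a₀)
    - 22767894528 / 49 * B a₀ a₁ ^ 3 - 25165824 / 7 * B a₀ a₁ ^ 2 * B a₀ (μ₁ a₀) ^ 2
    - 97910784 / 49 * B a₀ a₁ ^ 2 * B a₀ (μ₁ a₀) + 542429184 / 49 * B a₀ a₁ ^ 2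
    + 2457600 / 49 * B a₀ a₁ * B a₀ (μ₁ a₀) ^ 2 + 5162880 / 49 * B a₀ a₁ * B a₀ (μ₁ a₀)
    - 904320 / 7 * B a₀ a₁ + 16384 / 49 * B a₀ (μ₁ a₀) ^ 3 + 1152 / 49 * B a₀ (μ₁ a₀) ^ 2
    - 46500 / 49 * B a₀ (μ₁ a₀) + 29013 / 49 := by
  have hsym := C.hV.2.1
  have e0 : B (μ₁ (μ₀ a₁)) a₀ = B a₀ (μ₁ (μ₀ a₁)) := hsym _ _
  have e1 : B (μ₁ (μ₀ a₁)) (μ₀ a₁) = B (μ₀ a₁) (μ₁ (μ₀ a₁)) := hsym _ _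
  have e2 : B (μ₁ (μ₀ a₁)) a₁ = B a₀ (μ₁ a₀) := by rw [hsym, C.b_a1_a3]
  have e3 : B (μ₁ (μ₀ a₁)) (μ₀ (μ₁ a₀)) = B (μ₀ (μ₁ a₀)) (μ₁ (μ₀ a₁)) := hsym _ _
  have e4 : B (μ₁ (μ₀ a₁)) (μ₁ a₀) = B a₀ a₁ := by rw [hsym, C.b_a2_a3]
  have s1 : B (μ₁ (μ₀ a₁)) (sig mul a₀ (μ₁ a₀)) = B a₁ (sig mul a₀ (μ₁ a₀)) := by
    conv_lhs => rw [← C.mu₁_even]
    rw [C.h₁.2.1]
    conv_lhs => rw [← C.mu₀_even]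
    exact C.h₀.2.1 _ _
  have s2 : B (μ₁ (μ₀ a₁)) (sig mul a₁ (μ₀ a₁)) = 31 / 32 * B a₀ (μ₁ a₀) - 1 / 32 := by
    conv_lhs => rw [← C.swap.mu₀_even]
    rw [C.h₁.2.1]
    conv_lhs => rw [← C.swap.mu₁_even]
    rw [C.h₀.2.1, inner_sig C.hV C.h₁ C.n₁, C.z_eq]
  rw [hsym]
  conv_lhs => arg 2; rw [C.a3_eq]
  simp only [map_add, map_smul, C.fix₀, C.invol₀, C.mu₀_even, C.swap.mu₁_even]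
  simp only [e0, e1, e2, e3, e4, s1, s2, C.inner_even, C.inner_a3, C.inner_am1_a3, C.inner_am2_a3, smul_eq_mul]
  ring

theorem Ctx.mul_a3 : mul a₀ (μ₁ (μ₀ a₁)) =
    (88064 / 21 * B a₀ a₁ ^ 2 - 5576 / 21 * B a₀ a₁ - 160 / 21 * B a₀ (μ₁ a₀) + 1363 / 336 : ℝ) • a₀
    + (-32768 / 7 * B a₀ a₁ ^ 2 + 19456 / 21 * B a₀ a₁ - 128 / 7 * B a₀ (μ₁ a₀) - 491 / 21 : ℝ) • sig mul a₀ a₁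
    + (-1024 / 7 * B a₀ a₁ ^ 2 + 328 / 21 * B a₀ a₁ - 4 / 7 * B a₀ (μ₁ a₀) - 29 / 84 : ℝ) • a₁
    + (40 / 3 * B a₀ a₁ - 37 / 96 : ℝ) • μ₀ a₁ + (-256 * B a₀ a₁ + 7 / 3 : ℝ) • sig mul a₀ (μ₁ a₀)
    + (-8 * B a₀ a₁ + 11 / 96 : ℝ) • μ₁ a₀ + (-1 / 24 : ℝ) • μ₀ (μ₁ a₀) := by
  have p1 := mul_of_sig (mul := mul) (a := a₀) (b := a₁) rfl
  have p2 := mul_of_sig (sig_mu_arg C.hV C.h₀ C.n₀ a₁)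
  have p3 := mul_of_sig (mul := mul) (a := a₀) (b := μ₁ a₀) rfl
  have p4 := mul_of_sig (sig_mu_arg C.hV C.h₀ C.n₀ (μ₁ a₀))
  have p5 := mul_sig C.hV C.h₀ C.n₀ (μ₁ a₀)
  have p6 := C.core_at.1
  rw [C.z_eq] at p6
  rw [C.a3_eq]
  simp only [map_add, map_smul, C.idem₀, p1, p2, p3, p4, p5, p6]
  module

theorem Ctx.inner_mul_a3 : B (mul a₀ (μ₁ (μ₀ a₁))) a₁ = -1024 / 7 * B a₀ a₁ ^ 3 + 1152 / 7 * B a₀ a₁ ^ 2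
      - 60 / 7 * B a₀ a₁ * B a₀ (μ₁ a₀) - 61 / 7 * B a₀ a₁ - 13 / 112 * B a₀ (μ₁ a₀) + 13 / 112 ∧
    B (mul a₀ (μ₁ (μ₀ a₁))) (μ₁ a₀) = -786432 / 7 * B a₀ a₁ ^ 4 + 871424 / 7 * B a₀ a₁ ^ 3
      - 15360 / 7 * B a₀ a₁ ^ 2 * B a₀ (μ₁ a₀) - 67968 / 7 * B a₀ a₁ ^ 2 - 3396 / 7 * B a₀ a₁ * B a₀ (μ₁ a₀)
      + 1739 / 7 * B a₀ a₁ - 48 / 7 * B a₀ (μ₁ a₀) ^ 2 + 989 / 112 * B a₀ (μ₁ a₀) - 221 / 112 := by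
  have hsym := C.hV.2.1
  have sw := C.swap.inner_am1_a3
  rw [hsym a₁ a₀, C.z_eq] at sw
  rw [hsym (mul a₀ (μ₁ (μ₀ a₁))) a₁, hsym (mul a₀ (μ₁ (μ₀ a₁))) (μ₁ a₀), C.mul_a3]
  constructor
  · have e0 : B a₁ a₀ = B a₀ a₁ := hsym _ _
    simp only [map_add, map_smul, e0, C.n₁, C.inner_s1.2, C.inner_even, C.b_a2_a1, C.b_a1_am2, C.inner_a3, C.z_eq,
      smul_eq_mul]
    ring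
  · have e0 : B (μ₁ a₀) a₀ = B a₀ (μ₁ a₀) := hsym _ _
    have e1 : B (μ₁ a₀) a₁ = B a₀ a₁ := by rw [hsym, C.b_a2_a1]
    have e2 : B (μ₁ a₀) (μ₀ a₁) = B a₀ (μ₁ (μ₀ a₁)) := by rw [hsym, C.b_am1_a2]
    have e3 : B (μ₁ a₀) (μ₁ a₀) = 1 := by rw [C.h₁.2.1, C.n₀]
    have s1 : B (μ₁ a₀) (sig mul a₀ a₁) = B a₀ (sig mul a₀ a₁) := by
      conv_lhs => rw [← C.mu₁_s1]
      exact C.h₁.2.1 _ _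
    have s2 : B (μ₁ a₀) (sig mul a₀ (μ₁ a₀)) = B a₀ (sig mul a₀ (μ₁ a₀)) := by
      conv_lhs => rw [← C.mu₁_even]
      exact C.h₁.2.1 _ _
    simp only [map_add, map_smul, e0, e1, e2, e3, s1, s2, C.inner_s1.1, inner_sig C.hV C.h₀ C.n₀, sw, C.inner_a3,
      smul_eq_mul]
    ring

/-- First equation. -/
theorem Ctx.eq_f : 786432 / 7 * B a₀ a₁ ^ 4 - 872448 / 7 * B a₀ a₁ ^ 3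
    + 15360 / 7 * B a₀ a₁ ^ 2 * B a₀ (μ₁ a₀) + 69120 / 7 * B a₀ a₁ ^ 2 + 3336 / 7 * B a₀ a₁ * B a₀ (μ₁ a₀)
    - 1800 / 7 * B a₀ a₁ + 48 / 7 * B a₀ (μ₁ a₀) ^ 2 - 501 / 56 * B a₀ (μ₁ a₀) + 117 / 56 = 0 := by
  have sw := C.swap.inner_mul_a3.2
  rw [C.hV.2.1 a₁ a₀, C.z_eq] at sw
  -- transport by `μ₁ μ₀`
  have e : B (mul a₀ (μ₁ (μ₀ a₁))) a₁ = B (mul a₁ (μ₀ (μ₁ a₀))) (μ₀ a₁) := by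
    conv_lhs => rw [C.hV.1, ← C.swap.fix₀]
    conv_rhs => rw [← C.h₀.2.1, ← C.h₁.2.1]
    rw [C.h₀.1, C.h₁.1, C.invol₀, C.swap.invol₀, C.invol₀, C.swap.fix₀]
  rw [← e, C.inner_mul_a3.1] at sw
  linarith

/-- Second equation. -/
theorem Ctx.eq_g : 402653184 / 49 * B a₀ a₁ ^ 5 - 453771264 / 49 * B a₀ a₁ ^ 4
    + 19660800 / 49 * B a₀ a₁ ^ 3 * B a₀ (μ₁ a₀) + 33103872 / 49 * B a₀ a₁ ^ 3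
    - 1195008 / 49 * B a₀ a₁ ^ 2 * B a₀ (μ₁ a₀) - 92160 / 7 * B a₀ a₁ ^ 2
    + 70656 / 49 * B a₀ a₁ * B a₀ (μ₁ a₀) ^ 2 + 124392 / 49 * B a₀ a₁ * B a₀ (μ₁ a₀) - 216 / 7 * B a₀ a₁
    + 2088 / 49 * B a₀ (μ₁ a₀) ^ 2 - 8703 / 196 * B a₀ (μ₁ a₀) + 351 / 196 = 0 := by
  have hsym := C.hV.2.1
  have h33 : mul (μ₁ (μ₀ a₁)) (μ₁ (μ₀ a₁)) = μ₁ (μ₀ a₁) := by rw [← C.h₁.1, ← C.h₀.1, C.idem₁]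
  have e : B (mul a₀ (μ₁ (μ₀ a₁))) (μ₁ (μ₀ a₁)) = B a₀ (μ₁ (μ₀ a₁)) := by rw [← C.hV.2.2.2.1, h33]
  rw [hsym, C.mul_a3] at e
  have e0 : B (μ₁ (μ₀ a₁)) a₀ = B a₀ (μ₁ (μ₀ a₁)) := hsym _ _
  have e1 : B (μ₁ (μ₀ a₁)) (μ₀ a₁) = B (μ₀ a₁) (μ₁ (μ₀ a₁)) := hsym _ _
  have e2 : B (μ₁ (μ₀ a₁)) a₁ = B a₀ (μ₁ a₀) := by rw [hsym, C.b_a1_a3]
  have e3 : B (μ₁ (μ₀ a₁)) (μ₀ (μ₁ a₀)) = B (μ₀ (μ₁ a₀)) (μ₁ (μ₀ a₁)) := hsym _ _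
  have e4 : B (μ₁ (μ₀ a₁)) (μ₁ a₀) = B a₀ a₁ := by rw [hsym, C.b_a2_a3]
  have s0 : B (μ₁ (μ₀ a₁)) (sig mul a₀ a₁) = B a₁ (sig mul a₀ a₁) := by
    conv_lhs => rw [← C.mu₁_s1]
    rw [C.h₁.2.1]
    conv_lhs => rw [← C.mu₀_s1]
    exact C.h₀.2.1 _ _
  have s1 : B (μ₁ (μ₀ a₁)) (sig mul a₀ (μ₁ a₀)) = B a₁ (sig mul a₀ (μ₁ a₀)) := by
    conv_lhs => rw [← C.mu₁_even]
    rw [C.h₁.2.1]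
    conv_lhs => rw [← C.mu₀_even]
    exact C.h₀.2.1 _ _
  simp only [map_add, map_smul, e0, e1, e2, e3, e4, s0, s1, C.inner_s1.2, C.inner_even, C.inner_a3, C.inner_am1_a3,
    C.inner_am2_a3, smul_eq_mul] at e
  linear_combination e

end

end Cfsg.Agent.Lib.Sakuma
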