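import Cfsg.Agent.Lib.Sakuma.Dihedral

set_option autoImplicit false

/-!
The nine solutions of the two equations between `x = (a₀, a₁)` and `y = (a₀, a₂)`.
-/

namespace Cfsg.Agent.Lib.Sakuma

set_option maxHeartbeats 1000000 in
theorem roots (x y : ℝ) (hf : 786432 / 7 * x ^ 4 - 872448 / 7 * x ^ 3 + 15360 / 7 * x ^ 2 * y + 69120 / 7 * x ^ 2 + 3336 / 7 * x * y - 1800 / 7 * x + 48 / 7 * y ^ 2 - 501 / 56 * y + 117 / 56 = 0)
    (hg : 402653184 / 49 * x ^ 5 - 453771264 / 49 * x ^ 4 + 19660800 / 49 * x ^ 3 * y + 33103872 / 49 * x ^ 3 - 1195008 / 49 * x ^ 2 * y - 92160 / 7 * x ^ 2 + 70656 / 49 * x * y ^ 2 + 124392 / 49 * x * y - 216 / 7 * x + 2088 / 49 * y ^ 2 - 8703 / 196 * y + 351 / 196 = 0) :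
    x = 1 ∨ (x = 1 / 8 ∧ y = 1) ∨ (x = 0 ∧ y = 1) ∨ (x = 13 / 256 ∧ y = 13 / 256) ∨
      (x = 1 / 64 ∧ (y = 1 / 64 ∨ y = 1 / 8)) ∨ (x = 1 / 32 ∧ y = 0) ∨ (x = 3 / 128 ∧ y = 3 / 128) ∨
      (x = 5 / 256 ∧ y = 13 / 256) := by
  have h : (x - 1) * (x - 1 / 8) * (x - 0) * (x - 13 / 256) * (x - 1 / 64) * (x - 1 / 32) * (x - 3 / 128)
      * (x - 5 / 256) = 0 := by
    linear_combination -(((-5233 / 330301440 : ℝ) * x ^ 4 + (1 / 660602880 : ℝ) * x ^ 3 * y ^ 1 + (33619 / 56371445760 : ℝ) * x ^ 3 + (-14179 / 338228674560 : ℝ) * x ^ 2 * y ^ 1 + (-245137 / 4329327034368 : ℝ) * x ^ 2 + (23 / 338228674560 : ℝ) * x ^ 1 * y ^ 2 + (-55291 / 43293270343680 : ℝ) * x ^ 1 * y ^ 1 + (823201 / 923589767331840 : ℝ) * x ^ 1 + (29 / 14431090114560 : ℝ) * y ^ 2 + (-7589 / 923589767331840 : ℝ) * y ^ 1 + (481 / 1407374883553280 : ℝ)) * hf) - ((2293 / 24159191040 : ℝ) * x ^ 3 + (-1 / 48318382080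 : ℝ) * x ^ 2 * y ^ 1 + (861 / 68719476736 : ℝ) * x ^ 2 + (209 / 1236950581248 : ℝ) * x ^ 1 * y ^ 1 + (-16259 / 79164837199872 : ℝ) * x ^ 1 + (-1 / 3092376453120 : ℝ) * y ^ 2 + (557 / 395824185999360 : ℝ) * y ^ 1 + (-3367 / 8444249301319680 : ℝ)) * hg
  simp only [mul_eq_zero, sub_eq_zero] at h
  rcases h with ((((((h | h) | h) | h) | h) | h) | h) | h
  · exact Or.inl (h)
  · subst h
    have e : y = 1 := by linear_combination (-16 / 33345 : ℝ) * (hg - (65 / 2 : ℝ) * hf)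
    exact Or.inr (Or.inl (⟨rfl, e⟩))
  · subst h
    have e : y = 1 := by linear_combination (784 / 8775 : ℝ) * (hg - (87 / 14 : ℝ) * hf)
    exact Or.inr (Or.inr (Or.inl (⟨rfl, e⟩)))
  · subst h
    have e : y = 13 / 256 := by linear_combination (-1792 / 500175 : ℝ) * (hg - (473 / 28 : ℝ) * hf)
    exact Or.inr (Or.inr (Or.inr (Or.inl (⟨rfl, e⟩))))
  · subst h
    have e : (y - 1 / 64) * (y - 1 / 8) = 0 := by linear_combination (7 / 48 : ℝ) * hf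
    rcases mul_eq_zero.mp e with e | e
    · exact Or.inr (Or.inr (Or.inr (Or.inr (Or.inl (⟨rfl, Or.inl (sub_eq_zero.mp e)⟩)))))
    · exact Or.inr (Or.inr (Or.inr (Or.inr (Or.inl (⟨rfl, Or.inr (sub_eq_zero.mp e)⟩)))))
  · subst h
    have e : y = 0 := by linear_combination (-784 / 62775 : ℝ) * (hg - (179 / 14 : ℝ) * hf)
    exact Or.inr (Or.inr (Or.inr (Or.inr (Or.inr (Or.inl (⟨rfl, e⟩))))))
  · subst h
    have e : y = 3 / 128 := by linear_combination (-56 / 1755 : ℝ) * (hg - (78 / 7 : ℝ) * hf)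
    exact Or.inr (Or.inr (Or.inr (Or.inr (Or.inr (Or.inr (Or.inl (⟨rfl, e⟩)))))))
  · subst h
    have e : y = 13 / 256 := by linear_combination (-12544 / 169425 : ℝ) * (hg - (289 / 28 : ℝ) * hf)
    exact Or.inr (Or.inr (Or.inr (Or.inr (Or.inr (Or.inr (Or.inr (⟨rfl, e⟩)))))))

end Cfsg.Agent.Lib.Sakuma
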