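import Cfsg.Agent.Lib.Sakuma.Dihedral
import Cfsg.Agent.Lib.Sakuma.Roots

set_option autoImplicit false

/-!
The axis determines the involution, so two coincident axes in the dihedral orbit bound the order of
`μ₀ μ₁`; the 6-transposition property follows.
-/

namespace Cfsg.Agent.Lib.Sakuma

open Cfsg.Axial

variable {V : Type*} [AddCommGroup V] [Module ℝ V]
variable {mul : V →ₗ[ℝ] V →ₗ[ℝ] V} {B : LinearMap.BilinForm ℝ V}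

theorem eq_of_same_axis (hV : IsMajoranaAmbient mul B) {μ ν : V ≃ₗ[ℝ] V} {a : V} (h : IsMajoranaPair mul B μ a)
    (hn : B a a = 1) (hν : IsMiyamotoMap mul a {1, 0, 1 / 4} (1 / 32) (ν : V →ₗ[ℝ] V)) : μ = ν := by
  refine LinearEquiv.ext fun b => ?_
  obtain ⟨u, v, w, -, -, hw, hu, hv, -, -, -, hb, hb'⟩ := decomp (hV := hV) (h := h) (hn := hn) (b := b)
  have hw' : w ∈ eigen mul a (1 / 32) := Module.End.mem_eigenspace_iff.mpr hw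
  have e1 : ν a = a := hν.1 a (mem_eigenSum a (c := 1) (by simp)
    (by rw [eigen, Module.End.mem_eigenspace_iff, one_smul]; exact h.2.2.1.1.2.1))
  have e2 : ν u = u := hν.1 u (mem_eigenSum a (by simp) hu)
  have e3 : ν v = v := hν.1 v (mem_eigenSum a (by simp) hv)
  have e4 : ν w = -w := hν.2 w hw'
  conv_rhs => rw [hb, map_add, map_add, map_add, map_smul, e1, e2, e3, e4]
  rw [hb']; module

theorem miyamoto_map {f μ : V ≃ₗ[ℝ] V} {a : V} (hf : ∀ u v : V, f (mul u v) = mul (f u) (f v))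
    (h : IsMajoranaPair mul B μ a) :
    IsMiyamotoMap mul (f a) {1, 0, 1 / 4} (1 / 32) ((f * μ * f⁻¹ : V ≃ₗ[ℝ] V) : V →ₗ[ℝ] V) := by
  have he : ∀ (c : ℝ), eigen mul (f a) c = (eigen mul a c).map (f : V →ₗ[ℝ] V) := by
    intro c
    ext v
    rw [Submodule.mem_map_equiv]
    obtain ⟨w, rfl⟩ := f.surjective v
    simp only [eigen, Module.End.mem_eigenspace_iff]
    rw [LinearEquiv.symm_apply_apply, ← hf, ← f.map_smul]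
    exact f.injective.eq_iff
  have hS : eigenSum mul (f a) {1, 0, 1 / 4} = (eigenSum mul a {1, 0, 1 / 4}).map (f : V →ₗ[ℝ] V) := by
    simp only [eigenSum, Submodule.map_iSup, he]
  constructor
  · intro v hv
    rw [hS, Submodule.mem_map] at hv
    obtain ⟨w, hw, rfl⟩ := hv
    show f (μ (f.symm (f w))) = f w
    rw [LinearEquiv.symm_apply_apply]
    exact congrArg f (h.2.2.2.1 w hw)
  · intro v hv
    rw [he, Submodule.mem_map] at hv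
    obtain ⟨w, hw, rfl⟩ := hv
    show f (μ (f.symm (f w))) = -(f w)
    rw [LinearEquiv.symm_apply_apply, ← map_neg]
    exact congrArg f (h.2.2.2.2 w hw)

theorem eq_of_inner_one (hV : IsMajoranaAmbient mul B) {a b : V} (ha : B a a = 1) (hb : B b b = 1)
    (hab : B a b = 1) : a = b := by
  by_contra hne
  have h := hV.2.2.1 (a - b) (sub_ne_zero.mpr hne)
  simp only [map_sub, LinearMap.sub_apply, ha, hb, hab, hV.2.1 b a] at h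
  norm_num at h

theorem conj_eq (hV : IsMajoranaAmbient mul B) {μ ν : V ≃ₗ[ℝ] V} {a b : V} (h : IsMajoranaPair mul B μ a)
    (hn : B a a = 1) (h' : IsMajoranaPair mul B ν b) (f : V ≃ₗ[ℝ] V)
    (hf : ∀ u v : V, f (mul u v) = mul (f u) (f v)) (hfb : f b = a) : μ = f * ν * f⁻¹ := by
  have hM := miyamoto_map hf h'
  rw [hfb] at hM
  exact eq_of_same_axis hV h hn hM

theorem four {μ₀ μ₁ : V ≃ₗ[ℝ] V} {a₀ a₁ : V} (C : Ctx mul B μ₀ μ₁ a₀ a₁)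
    (h4 : B (μ₀ a₁) (μ₁ (μ₀ a₁)) = 1) : (μ₀ * μ₁) ^ 4 = 1 := by
  have i₀ : μ₀⁻¹ = μ₀ := inv_eq_of_mul_eq_one_right (LinearEquiv.ext fun v => C.invol₀ v)
  have i₁ : μ₁⁻¹ = μ₁ := inv_eq_of_mul_eq_one_right (LinearEquiv.ext fun v => C.swap.invol₀ v)
  have hn : B (μ₀ a₁) (μ₀ a₁) = 1 := by rw [C.h₀.2.1, C.n₁]
  have hn' : B (μ₁ (μ₀ a₁)) (μ₁ (μ₀ a₁)) = 1 := by rw [C.h₁.2.1, hn]
  have e : μ₀ a₁ = μ₁ (μ₀ a₁) := eq_of_inner_one C.hV hn hn' h4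
  have e1 : a₁ = μ₀ (μ₁ (μ₀ a₁)) := by rw [← e, C.invol₀]
  have e' : μ₁ = _ := conj_eq C.hV C.h₁ C.n₁ C.h₁ (μ₀ * μ₁ * μ₀) (fun u v => by
    simp only [LinearEquiv.mul_apply, C.h₀.1, C.h₁.1]) (by simp only [LinearEquiv.mul_apply]; exact e1.symm)
  simp only [mul_inv_rev, i₀, i₁, mul_assoc] at e'
  calc (μ₀ * μ₁) ^ 4 = (μ₀ * (μ₁ * (μ₀ * (μ₁ * (μ₀ * (μ₁ * μ₀)))))) * μ₁ := by
        simp only [pow_succ, pow_zero, one_mul, mul_assoc]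
    _ = μ₁ * μ₁ := by rw [← e']
    _ = 1 := LinearEquiv.ext fun v => C.swap.invol₀ v

theorem five {μ₀ μ₁ : V ≃ₗ[ℝ] V} {a₀ a₁ : V} (C : Ctx mul B μ₀ μ₁ a₀ a₁)
    (h5 : B (μ₀ (μ₁ a₀)) (μ₁ (μ₀ a₁)) = 1) : (μ₀ * μ₁) ^ 5 = 1 := by
  have i₀ : μ₀⁻¹ = μ₀ := inv_eq_of_mul_eq_one_right (LinearEquiv.ext fun v => C.invol₀ v)
  have i₁ : μ₁⁻¹ = μ₁ := inv_eq_of_mul_eq_one_right (LinearEquiv.ext fun v => C.swap.invol₀ v)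
  have hn : B (μ₀ (μ₁ a₀)) (μ₀ (μ₁ a₀)) = 1 := by rw [C.h₀.2.1, C.h₁.2.1, C.n₀]
  have hn' : B (μ₁ (μ₀ a₁)) (μ₁ (μ₀ a₁)) = 1 := by rw [C.h₁.2.1, C.h₀.2.1, C.n₁]
  have e := eq_of_inner_one C.hV hn hn' h5
  have e1 : a₀ = μ₁ (μ₀ (μ₁ (μ₀ a₁))) := by rw [← e, C.invol₀, C.swap.invol₀]
  have e' : μ₀ = _ := conj_eq C.hV C.h₀ C.n₀ C.h₁ (μ₁ * μ₀ * μ₁ * μ₀) (fun u v => by
    simp only [LinearEquiv.mul_apply, C.h₀.1, C.h₁.1]) (by simp only [LinearEquiv.mul_apply]; exact e1.symm)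
  simp only [mul_inv_rev, i₀, i₁, mul_assoc] at e'
  calc (μ₀ * μ₁) ^ 5 = μ₀ * (μ₁ * (μ₀ * (μ₁ * (μ₀ * (μ₁ * (μ₀ * (μ₁ * (μ₀ * μ₁)))))))) := by
        simp only [pow_succ, pow_zero, one_mul, mul_assoc]
    _ = μ₀ * μ₀ := by rw [← e']
    _ = 1 := LinearEquiv.ext fun v => C.invol₀ v

theorem six {μ₀ μ₁ : V ≃ₗ[ℝ] V} {a₀ a₁ : V} (C : Ctx mul B μ₀ μ₁ a₀ a₁)
    (h6 : B (μ₀ (μ₁ (μ₀ a₁))) (μ₁ (μ₀ a₁)) = 1) : (μ₀ * μ₁) ^ 6 = 1 := by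
  have i₀ : μ₀⁻¹ = μ₀ := inv_eq_of_mul_eq_one_right (LinearEquiv.ext fun v => C.invol₀ v)
  have i₁ : μ₁⁻¹ = μ₁ := inv_eq_of_mul_eq_one_right (LinearEquiv.ext fun v => C.swap.invol₀ v)
  have hn : B (μ₁ (μ₀ a₁)) (μ₁ (μ₀ a₁)) = 1 := by rw [C.h₁.2.1, C.h₀.2.1, C.n₁]
  have hn' : B (μ₀ (μ₁ (μ₀ a₁))) (μ₀ (μ₁ (μ₀ a₁))) = 1 := by rw [C.h₀.2.1, hn]
  have e := eq_of_inner_one C.hV hn' hn h6
  have e1 : a₁ = μ₀ (μ₁ (μ₀ (μ₁ (μ₀ a₁)))) := by rw [e, C.swap.invol₀, C.invol₀]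
  have e' : μ₁ = _ := conj_eq C.hV C.h₁ C.n₁ C.h₁ (μ₀ * μ₁ * μ₀ * μ₁ * μ₀) (fun u v => by
    simp only [LinearEquiv.mul_apply, C.h₀.1, C.h₁.1]) (by simp only [LinearEquiv.mul_apply]; exact e1.symm)
  simp only [mul_inv_rev, i₀, i₁, mul_assoc] at e'
  calc (μ₀ * μ₁) ^ 6 = (μ₀ * (μ₁ * (μ₀ * (μ₁ * (μ₀ * (μ₁ * (μ₀ * (μ₁ * (μ₀ * (μ₁ * μ₀)))))))))) * μ₁ := by
        simp only [pow_succ, pow_zero, one_mul, mul_assoc]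
    _ = μ₁ * μ₁ := by rw [← e']
    _ = 1 := LinearEquiv.ext fun v => C.swap.invol₀ v

theorem six_transposition {μ₀ μ₁ : V ≃ₗ[ℝ] V} {a₀ a₁ : V} (C : Ctx mul B μ₀ μ₁ a₀ a₁) :
    ∃ n : ℕ, 1 ≤ n ∧ n ≤ 6 ∧ (μ₀ * μ₁) ^ n = 1 := by
  have s₀ : μ₀ * μ₀ = 1 := LinearEquiv.ext fun v => C.invol₀ v
  have s₁ : μ₁ * μ₁ = 1 := LinearEquiv.ext fun v => C.swap.invol₀ v
  have i₀ : μ₀⁻¹ = μ₀ := inv_eq_of_mul_eq_one_right s₀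
  have i₁ : μ₁⁻¹ = μ₁ := inv_eq_of_mul_eq_one_right s₁
  have hm₀ := C.h₀.1
  have hm₁ := C.h₁.1
  have hm10 : ∀ u v, (μ₁ * μ₀) (mul u v) = mul ((μ₁ * μ₀) u) ((μ₁ * μ₀) v) := fun u v => by
    show μ₁ (μ₀ (mul u v)) = _
    rw [hm₀, hm₁]; rfl
  have hm01 : ∀ u v, (μ₀ * μ₁) (mul u v) = mul ((μ₀ * μ₁) u) ((μ₀ * μ₁) v) := fun u v => by
    show μ₀ (μ₁ (mul u v)) = _
    rw [hm₁, hm₀]; rfl
  have hm010 : ∀ u v, (μ₀ * μ₁ * μ₀) (mul u v) = mul ((μ₀ * μ₁ * μ₀) u) ((μ₀ * μ₁ * μ₀) v) := fun u v => by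
    show μ₀ (μ₁ (μ₀ (mul u v))) = _
    rw [hm₀, hm₁, hm₀]; rfl
  rcases roots _ _ C.eq_f C.eq_g with hx | ⟨-, hy⟩ | ⟨-, hy⟩ | ⟨hx, hy⟩ | ⟨hx, hy⟩ | ⟨hx, hy⟩ | ⟨hx, hy⟩ | ⟨hx, hy⟩
  · refine ⟨1, le_rfl, by norm_num, ?_⟩
    have e : a₀ = a₁ := eq_of_inner_one C.hV C.n₀ C.n₁ hx
    have e' : μ₁ = μ₀ := (eq_of_same_axis C.hV C.h₀ C.n₀ (e.symm ▸ C.h₁.2.2.2)).symm
    rw [pow_one, e', s₀]
  · refine ⟨2, by norm_num, by norm_num, ?_⟩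
    have hn : B (μ₁ a₀) (μ₁ a₀) = 1 := by rw [C.h₁.2.1, C.n₀]
    have e : a₀ = μ₁ a₀ := eq_of_inner_one C.hV C.n₀ hn hy
    have e' := eq_of_same_axis (ν := μ₁ * μ₀ * μ₁⁻¹) C.hV C.h₀ C.n₀ (e.symm ▸ miyamoto_map hm₁ C.h₀)
    rw [i₁] at e'
    rw [pow_two]
    calc μ₀ * μ₁ * (μ₀ * μ₁) = μ₀ * (μ₁ * μ₀ * μ₁) := by group
      _ = 1 := by rw [← e', s₀]
  · refine ⟨2, by norm_num, by norm_num, ?_⟩
    have hn : B (μ₁ a₀) (μ₁ a₀) = 1 := by rw [C.h₁.2.1, C.n₀]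
    have e : a₀ = μ₁ a₀ := eq_of_inner_one C.hV C.n₀ hn hy
    have e' := eq_of_same_axis (ν := μ₁ * μ₀ * μ₁⁻¹) C.hV C.h₀ C.n₀ (e.symm ▸ miyamoto_map hm₁ C.h₀)
    rw [i₁] at e'
    rw [pow_two]
    calc μ₀ * μ₁ * (μ₀ * μ₁) = μ₀ * (μ₁ * μ₀ * μ₁) := by group
      _ = 1 := by rw [← e', s₀]
  · refine ⟨3, by norm_num, by norm_num, ?_⟩
    have h3 := C.inner_a3
    rw [hx, hy] at h3
    norm_num at h3
    have hn : B (μ₁ (μ₀ a₁)) (μ₁ (μ₀ a₁)) = 1 := by rw [C.h₁.2.1, C.h₀.2.1, C.n₁]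
    have e : a₀ = μ₁ (μ₀ a₁) := eq_of_inner_one C.hV C.n₀ hn h3
    have hM : IsMiyamotoMap mul (μ₁ (μ₀ a₁)) {1, 0, 1 / 4} (1 / 32)
        (((μ₁ * μ₀) * μ₁ * (μ₁ * μ₀)⁻¹ : V ≃ₗ[ℝ] V) : V →ₗ[ℝ] V) := miyamoto_map hm10 C.h₁
    have e' := eq_of_same_axis C.hV C.h₀ C.n₀ (e.symm ▸ hM)
    rw [mul_inv_rev, i₀, i₁] at e'
    calc (μ₀ * μ₁) ^ 3 = μ₀ * (μ₁ * μ₀ * μ₁ * (μ₀ * μ₁)) := by simp only [pow_succ, pow_zero, one_mul, mul_assoc]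
      _ = 1 := by rw [← e', s₀]
  · -- types 3C and 4B
    rcases hy with hy | hy
    · refine ⟨3, by norm_num, by norm_num, ?_⟩
      have h3 := C.inner_a3
      rw [hx, hy] at h3
      norm_num at h3
      have hn : B (μ₁ (μ₀ a₁)) (μ₁ (μ₀ a₁)) = 1 := by rw [C.h₁.2.1, C.h₀.2.1, C.n₁]
      have e : a₀ = μ₁ (μ₀ a₁) := eq_of_inner_one C.hV C.n₀ hn h3
      have hM : IsMiyamotoMap mul (μ₁ (μ₀ a₁)) {1, 0, 1 / 4} (1 / 32)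
          (((μ₁ * μ₀) * μ₁ * (μ₁ * μ₀)⁻¹ : V ≃ₗ[ℝ] V) : V →ₗ[ℝ] V) := miyamoto_map hm10 C.h₁
      have e' := eq_of_same_axis C.hV C.h₀ C.n₀ (e.symm ▸ hM)
      rw [mul_inv_rev, i₀, i₁] at e'
      calc (μ₀ * μ₁) ^ 3 = μ₀ * (μ₁ * μ₀ * μ₁ * (μ₀ * μ₁)) := by simp only [pow_succ, pow_zero, one_mul, mul_assoc]
        _ = 1 := by rw [← e', s₀]
    · refine ⟨4, by norm_num, by norm_num, ?_⟩
      have h4 := C.inner_am1_a3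
      rw [hx, hy] at h4
      norm_num at h4
      exact four C h4
  · refine ⟨4, by norm_num, by norm_num, ?_⟩
    have h4 := C.inner_am1_a3
    rw [hx, hy] at h4
    norm_num at h4
    exact four C h4
  · refine ⟨5, by norm_num, by norm_num, ?_⟩
    have h5 := C.inner_am2_a3
    rw [hx, hy] at h5
    norm_num at h5
    exact five C h5
  · refine ⟨6, by norm_num, le_rfl, ?_⟩
    have h6 := C.inner_am3_a3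
    rw [hx, hy] at h6
    norm_num at h6
    exact six C h6

end Cfsg.Agent.Lib.Sakuma
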