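import Cfsg.Prelude.Def_AxialAlgebras

set_option autoImplicit false

/-!
One Majorana involution `(μ, a)` and a vector `b`: the eigencomponents of `b` with respect to `a`,
expressed through `a`, `b`, `μ b` and `σ = a ∘ b - (a + b)/32`.
-/

namespace Cfsg.Agent.Lib.Sakuma

open Cfsg.Axial

variable {V : Type*} [AddCommGroup V] [Module ℝ V]
variable {mul : V →ₗ[ℝ] V →ₗ[ℝ] V} {B : LinearMap.BilinForm ℝ V}

/-- The invariant vector `a ∘ b - (a + b)/32`. -/
noncomputable def sig (mul : V →ₗ[ℝ] V →ₗ[ℝ] V) (a b : V) : V := mul a b - (1 / 32 : ℝ) • (a + b)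

theorem eigen_orth (hV : IsMajoranaAmbient mul B) {a u v : V} {c : ℝ} (hu : u ∈ eigen mul a c) {S : Set ℝ}
    (hc : c ∉ S) (hv : v ∈ eigenSum mul a S) : B u v = 0 := by
  have hle : eigenSum mul a S ≤ LinearMap.ker (B u) := by
    refine iSup₂_le fun d hd v hv => ?_
    rw [LinearMap.mem_ker]
    have hu' : mul a u = c • u := Module.End.mem_eigenspace_iff.mp hu
    have hv' : mul a v = d • v := Module.End.mem_eigenspace_iff.mp hv
    have h := hV.2.2.2.1 u a v
    rw [hv', hV.1 u a, hu', map_smul, map_smul, LinearMap.smul_apply, smul_eq_mul, smul_eq_mul] at h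
    have : (d - c) * B u v = 0 := by linarith
    exact (mul_eq_zero.mp this).resolve_left (sub_ne_zero.mpr fun e => hc (e ▸ hd))
  exact hle hv

theorem mem_eigenSum (a : V) {S : Set ℝ} {c : ℝ} {v : V} (hc : c ∈ S) (hv : v ∈ eigen mul a c) :
    v ∈ eigenSum mul a S :=
  (le_iSup₂ (f := fun d (_ : d ∈ S) => eigen mul a d) c hc) hv

theorem decomp
    (hV : IsMajoranaAmbient mul B) {μ : V ≃ₗ[ℝ] V} {a : V} (h : IsMajoranaPair mul B μ a) (hn : B a a = 1) (b : V) :
    ∃ u v w, mul a u = 0 ∧ mul a v = (1 / 4 : ℝ) • v ∧ mul a w = (1 / 32 : ℝ) • w ∧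
      u ∈ eigen mul a 0 ∧ v ∈ eigen mul a (1 / 4) ∧ B a v = 0 ∧ B u v = 0 ∧ B w v = 0 ∧
      b = B a b • a + u + v + w ∧ μ b = B a b • a + u + v - w := by
  obtain ⟨hm, hB, ⟨⟨ha0, haa, hs, hlaw⟩, hone⟩, hfx, hneg⟩ := h
  have hb : b ∈ eigenSum mul a majoranaSpectrum := hs ▸ Submodule.mem_top
  rw [eigenSum, majoranaSpectrum, iSup_insert, iSup_insert, iSup_insert, iSup_singleton, Submodule.mem_sup] at hb
  obtain ⟨p, hp, r, hr, rfl⟩ := hb
  rw [Submodule.mem_sup] at hr
  obtain ⟨u, hu, r, hr, rfl⟩ := hr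
  rw [Submodule.mem_sup] at hr
  obtain ⟨v, hv, w, hw, rfl⟩ := hr
  have e1 : μ p = p := hfx p (mem_eigenSum a (by simp) hp)
  have e2 : μ u = u := hfx u (mem_eigenSum a (by simp) hu)
  have e3 : μ v = v := hfx v (mem_eigenSum a (by simp) hv)
  have e4 : μ w = -w := hneg w hw
  have hain : a ∈ eigen mul a 1 := by rw [hone]; exact Submodule.mem_span_singleton_self a
  have o1 : B a u = 0 := eigen_orth hV hain (S := {0}) (by norm_num) (mem_eigenSum a (by simp) hu)
  have o2 : B a v = 0 := eigen_orth hV hain (S := {1 / 4}) (by norm_num) (mem_eigenSum a (by simp) hv)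
  have o3 : B a w = 0 := eigen_orth hV hain (S := {1 / 32}) (by norm_num) (mem_eigenSum a (by simp) hw)
  have o4 : B u v = 0 := eigen_orth hV hu (S := {1 / 4}) (by norm_num) (mem_eigenSum a (by simp) hv)
  have o5 : B w v = 0 := eigen_orth hV hw (S := {1 / 4}) (by norm_num) (mem_eigenSum a (by simp) hv)
  rw [hone, Submodule.mem_span_singleton] at hp
  obtain ⟨k, rfl⟩ := hp
  have hk : B a (k • a + (u + (v + w))) = k := by
    simp only [map_add, map_smul, hn, o1, o2, o3, smul_eq_mul, mul_one, add_zero]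
  refine ⟨u, v, w, ?_, Module.End.mem_eigenspace_iff.mp hv, Module.End.mem_eigenspace_iff.mp hw, hu, hv, o2, o4,
    o5, ?_, ?_⟩
  · have := Module.End.mem_eigenspace_iff.mp hu
    rwa [zero_smul] at this
  · rw [hk]; module
  · rw [hk, map_add, map_add, map_add, e1, e2, e3, e4]; module

section
variable (hV : IsMajoranaAmbient mul B) {μ : V ≃ₗ[ℝ] V} {a : V} (h : IsMajoranaPair mul B μ a) (hn : B a a = 1)

include hV h

theorem fix_axis : μ a = a := by
  refine h.2.2.2.1 a (mem_eigenSum a (c := 1) (by simp) ?_)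
  rw [eigen, Module.End.mem_eigenspace_iff, one_smul]
  exact h.2.2.1.1.2.1

include hn

theorem invol (v : V) : μ (μ v) = v := by
  obtain ⟨u, v', w, -, -, hw, hu, hv, -, -, -, hb, hb'⟩ := decomp (hV := hV) (h := h) (hn := hn) (b := v)
  have e2 : μ u = u := h.2.2.2.1 u (mem_eigenSum a (by simp) hu)
  have e3 : μ v' = v' := h.2.2.2.1 v' (mem_eigenSum a (by simp) hv)
  have e4 : μ w = -w := h.2.2.2.2 w (Module.End.mem_eigenspace_iff.mpr hw)
  rw [hb', map_sub, map_add, map_add, map_smul, fix_axis hV h, e2, e3, e4]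
  linear_combination (norm := module) -hb

theorem sig_mu_arg (b : V) : sig mul a (μ b) = sig mul a b := by
  obtain ⟨u, v, w, hu, hv, hw, -, -, -, -, -, hb, hb'⟩ := decomp (hV := hV) (h := h) (hn := hn) (b := b)
  have haa := h.2.2.1.1.2.1
  set x := B a b with hx
  simp only [sig]
  rw [hb', hb]
  simp only [map_add, map_sub, map_smul, haa, hu, hv, hw]
  module

theorem mu_sig (b : V) : μ (sig mul a b) = sig mul a b := by
  conv_rhs => rw [← sig_mu_arg hV h hn b]
  simp only [sig, map_sub, map_smul, map_add, h.1, fix_axis hV h]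

theorem mul_sig (b : V) : mul a (sig mul a b) = (3 / 4 * B a b - 25 / 1024 : ℝ) • a + (7 / 32 : ℝ) • sig mul a b
    + (7 / 2048 : ℝ) • (b + μ b) := by
  obtain ⟨u, v, w, hu, hv, hw, -, -, -, -, -, hb, hb'⟩ := decomp (hV := hV) (h := h) (hn := hn) (b := b)
  have haa := h.2.2.1.1.2.1
  set x := B a b with hx
  simp only [sig]
  rw [hb', hb]
  simp only [map_add, map_sub, map_smul, haa, hu, hv, hw, map_zero, smul_zero]
  module

theorem inner_sig (b : V) : B a (sig mul a b) = (31 / 32) * B a b - 1 / 32 := by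
  have e : B a (mul a b) = B a b := by rw [hV.2.2.2.1, h.2.2.1.1.2.1]
  simp only [sig, map_sub, map_smul, map_add, hn, e, smul_eq_mul]
  ring

/-- The `0` and `1/4` components of `b`, with the consequences of the fusion law. -/
theorem components (b : V) : ∃ u v, u = (7 / 16 : ℝ) • (b + μ b) - (4 : ℝ) • sig mul a b + (3 * B a b - 1 / 8 : ℝ) • a ∧
    v = (4 : ℝ) • sig mul a b + (1 / 8 - 4 * B a b : ℝ) • a + (1 / 16 : ℝ) • (b + μ b) ∧
    mul a (mul u u) = 0 ∧ mul a (mul v v) = (1 / 4 * B v v) • a ∧ mul a (mul u v) = (1 / 4 : ℝ) • mul u v ∧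
    B v v = B b v := by
  obtain ⟨u, v, w, hu, hv, hw, hu', hv', o2, o4, o5, hb, hb'⟩ := decomp (hV := hV) (h := h) (hn := hn) (b := b)
  obtain ⟨-, -, ⟨⟨-, haa, -, hlaw⟩, hone⟩, -, -⟩ := h
  have h00 : ({0} : Set ℝ) = monsterLaw (1 / 4) (1 / 32) (0 : ℝ) 0 := by
    simp only [monsterLaw]; norm_num
  have h04 : ({1 / 4} : Set ℝ) = monsterLaw (1 / 4) (1 / 32) (0 : ℝ) (1 / 4) := by
    simp only [monsterLaw]; norm_num
  have h44 : ({1, 0} : Set ℝ) = monsterLaw (1 / 4) (1 / 32) (1 / 4 : ℝ) (1 / 4) := by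
    simp only [monsterLaw]; norm_num
  have huu : mul u u ∈ eigen mul a 0 := by
    have e : mul u u ∈ eigenSum mul a {0} :=
      h00 ▸ hlaw _ (by simp [majoranaSpectrum]) _ (by simp [majoranaSpectrum]) u hu' u hu'
    rwa [eigenSum, iSup_singleton] at e
  have huv : mul u v ∈ eigen mul a (1 / 4) := by
    have e : mul u v ∈ eigenSum mul a {1 / 4} :=
      h04 ▸ hlaw _ (by simp [majoranaSpectrum]) _ (by simp [majoranaSpectrum]) u hu' v hv'
    rwa [eigenSum, iSup_singleton] at e
  have hvv : mul v v ∈ eigenSum mul a {1, 0} :=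
    h44 ▸ hlaw _ (by simp [majoranaSpectrum]) _ (by simp [majoranaSpectrum]) v hv' v hv'
  rw [eigenSum, iSup_insert, iSup_singleton, Submodule.mem_sup] at hvv
  obtain ⟨p, hp, r, hr, hpr⟩ := hvv
  have hain : a ∈ eigen mul a 1 := by rw [hone]; exact Submodule.mem_span_singleton_self a
  rw [hone, Submodule.mem_span_singleton] at hp
  obtain ⟨k, rfl⟩ := hp
  have har : mul a r = 0 := by
    have := Module.End.mem_eigenspace_iff.mp hr
    rwa [zero_smul] at this
  have hk : k = 1 / 4 * B v v := by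
    have e : B a (mul v v) = k := by
      rw [← hpr, map_add, map_smul, hn, eigen_orth hV hain (S := {0}) (by norm_num) (mem_eigenSum a (by simp) hr),
        smul_eq_mul, mul_one, add_zero]
    rw [← e, hV.2.2.2.1, hv, map_smul, LinearMap.smul_apply, smul_eq_mul]
  refine ⟨u, v, ?_, ?_, ?_, ?_, Module.End.mem_eigenspace_iff.mp huv, ?_⟩
  · set x := B a b with hx
    simp only [sig]
    rw [hb', hb]
    simp only [map_add, map_smul, haa, hu, hv, hw]
    module
  · set x := B a b with hx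
    simp only [sig]
    rw [hb', hb]
    simp only [map_add, map_smul, haa, hu, hv, hw]
    module
  · have := Module.End.mem_eigenspace_iff.mp huu
    rwa [zero_smul] at this
  · rw [← hpr, map_add, map_smul, haa, har, add_zero, hk]
  · have e := congrArg (fun t => B t v) hb
    simp only [map_add, map_smul, LinearMap.add_apply, LinearMap.smul_apply, o2, o4, o5, smul_zero, zero_add,
      add_zero] at e
    exact e.symm

end

end Cfsg.Agent.Lib.Sakuma
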